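import Cfsg.Agent.R3.Suz2.Nets

set_option autoImplicit false
set_option maxRecDepth 100000

namespace Cfsg.Agent.R3.Suz2
open Cfsg.Agent.Comp Cfsg.Agent.Schur Cfsg.Agent.R3

def P : List (Nat × List (List Nat)) :=
  [(14, [[13]]),
   (13, [])]

def As : List (Nat × List Nat) :=
  [(0, [0, 1, 0, 1, 0, 1, 0, 1]),
   (2, [0, 1, 0, 1, 0, 1, 0, 1]),
   (3, [0, 1, 0, 1, 0, 1, 0, 1]),
   (4, [0, 1, 0, 1, 0, 1, 0, 1]),
   (6, [0, 1, 0, 1, 0, 1, 0, 1]),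
   (9, [0, 1, 0, 1, 0, 1, 0, 1]),
   (11, [0, 1, 0, 1, 0, 1, 0, 1]),
   (14, [0, 1, 0, 1, 0, 1, 0, 1]),
   (16, [0, 1, 0, 1, 0, 1, 0, 1]),
   (20, [0, 1, 0, 1, 0, 1, 0, 1]),
   (21, [0, 1, 0, 1, 0, 1, 0, 1]),
   (22, [0, 1, 0, 1, 0, 1, 0, 1]),
   (26, [0, 1, 0, 1, 0, 1, 0, 1]),
   (27, [0, 0, 0, 0]),
   (28, [0, 1, 0, 1, 0, 1, 0, 1]),
   (29, [0, 1, 0, 1, 0, 1, 0, 1]),
   (34, [0, 1, 0, 1, 0, 1, 0, 1]),
   (36, [0, 1, 0, 1, 0, 1, 0, 1]),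
   (37, [0, 1, 0, 1, 0, 1, 0, 1]),
   (39, [0, 1, 0, 1, 0, 1, 0, 1]),
   (40, [0, 1, 0, 1, 0, 1, 0, 1]),
   (43, [0, 1, 0, 1, 0, 1, 0, 1]),
   (44, [0, 1, 0, 1, 0, 1, 0, 1]),
   (45, [0, 1, 0, 1, 0, 1, 0, 1]),
   (49, [0, 1, 0, 1, 0, 1, 0, 1]),
   (52, [0, 1, 0, 1, 0, 1, 0, 1]),
   (54, [0, 1, 0, 1, 0, 1, 0, 1]),
   (61, [0, 1, 0, 1, 0, 1, 0, 1]),
   (63, [0, 1, 0, 1, 0, 1, 0, 1]),
   (64, [0, 1, 0, 1, 0, 1, 0, 1]),
   (68, [0, 1, 0, 1, 0, 1, 0, 1]),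
   (69, [0, 1, 0, 1, 0, 1, 0, 1]),
   (70, [0, 1, 0, 1, 0, 1, 0, 1]),
   (76, [0, 1, 0, 1, 0, 1, 0, 1]),
   (81, [0, 1, 0, 1, 0, 1, 0, 1]),
   (82, [0, 1, 0, 1, 0, 1, 0, 1]),
   (89, [0, 1, 0, 1, 0, 1, 0, 1]),
   (92, [0, 1, 0, 1, 0, 1, 0, 1]),
   (101, [0, 1, 0, 1, 0, 1, 0, 1]),
   (115, [0, 1, 0, 1, 0, 1, 0, 1]),
   (116, [0, 1, 0, 1, 0, 1, 0, 1]),
   (118, [0, 1, 0, 1, 0, 1, 0, 1]),
   (119, [0, 1, 0, 1, 0, 1, 0, 1]),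
   (121, [0, 1, 0, 1, 0, 1, 0, 1]),
   (126, [0, 1, 0, 1, 0, 1, 0, 1]),
   (129, [0, 1, 0, 1, 0, 1, 0, 1]),
   (136, [0, 1, 0, 1, 0, 1, 0, 1]),
   (138, [0, 1, 0, 1, 0, 1, 0, 1]),
   (139, [0, 1, 0, 1, 0, 1, 0, 1]),
   (151, [0, 1, 0, 1, 0, 1, 0, 1]),
   (156, [0, 1, 0, 1, 0, 1, 0, 1]),
   (189, [0, 1, 0, 1, 0, 1, 0, 1]),
   (220, [0, 1, 0, 1, 0, 1, 0, 1]),
   (223, [0, 1, 0, 1, 0, 1, 0, 1]),
   (252, [0, 1, 0, 1, 0, 1, 0, 1]),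
   (610, [1, 1, 1, 1]),
   (630, [0, 1, 0])]

theorem eqP : ∀ e ∈ pcE (5 ^ 1) P, ev (sig T) e.1 = ev (sig T) e.2 :=
  eq_of_eqsP ok (by norm_num) (show eqsP (nat_lit 1365) (nat_lit 11) (nat_lit 0) (nat_lit 11) T _ = true by decide +kernel)

def e0 : List Nat × Nat × List Nat := ([], 0, [1, 4, 10, 19, 1, 33, 3, 25, 12, 36, 51, 10, 41, 46, 10, 21, 50, 6, 32, 18])

def C : List (List Nat × Nat × List Nat) :=
  [([3], 1, [0, 4, 3, 7, 0, 33, 11, 36, 39, 25, 2, 11, 48, 39, 49, 29, 28, 32, 6, 29]),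
   ([1, 0], 2, [3, 7, 5, 15, 10, 16, 5, 6, 15, 32, 26, 10, 9, 36, 38, 9, 33, 48, 1, 17]),
   ([1, 2], 3, [1, 2, 5, 8, 13, 24, 3, 42, 3, 23, 45, 10, 11, 12, 3, 3, 21, 7, 48, 0]),
   ([3, 4], 4, [0, 1, 27, 7, 23, 43, 16, 29, 38, 44, 21, 52, 30, 39, 46, 28, 36, 6, 32, 22]),
   ([7, 0], 5, [3, 8, 11, 19, 2, 38, 2, 15, 15, 9, 31, 11, 41, 50, 26, 9, 18, 11, 45, 40]),
   ([1, 3, 4], 6, [0, 1, 20, 28, 2, 10, 38, 32, 27, 16, 50, 52, 54, 42, 18, 54, 44, 32, 4, 46]),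
   ([1, 7, 4], 7, [2, 3, 30, 27, 21, 30, 26, 25, 34, 27, 4, 52, 21, 38, 54, 45, 47, 48, 1, 45]),
   ([7, 0, 4], 8, [3, 5, 34, 49, 37, 45, 14, 51, 22, 43, 48, 52, 54, 47, 45, 46, 28, 45, 11, 48]),
   ([7, 4], 9, [2, 5, 35, 30, 5, 26, 17, 2, 23, 15, 39, 52, 31, 36, 53, 14, 16, 38, 15, 14]),
   ([1, 2, 14, 2], 10, [6, 2, 0, 12, 2, 17, 46, 36, 18, 33, 21, 41, 3, 19, 50, 0, 51, 16, 32, 0]),
   ([8, 10], 11, [29, 39, 5, 50, 28, 29, 45, 1, 3, 39, 40, 41, 18, 19, 5, 8, 31, 1, 49, 5]),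
   ([1, 7, 13, 7], 12, [48, 35, 0, 10, 35, 48, 22, 20, 14, 16, 3, 40, 21, 43, 21, 31, 37, 17, 20, 21]),
   ([7, 2, 3], 13, [3, 24, 3, 24, 3, 23, 3, 42, 23, 24, 42, 3, 23, 24, 42, 24, 42, 42, 23, 23]),
   ([8], 14, [23, 9, 46, 8, 9, 16, 21, 36, 12, 52, 45, 18, 22, 51, 22, 31, 50, 53, 17, 22]),
   ([8, 3, 4], 15, [44, 23, 26, 5, 32, 34, 5, 17, 38, 37, 9, 27, 2, 29, 2, 9, 20, 16, 37, 40]),
   ([1, 9, 0, 13], 16, [14, 9, 10, 2, 37, 15, 46, 23, 4, 44, 6, 12, 32, 48, 28, 38, 35, 52, 36, 20]),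
   ([8, 0], 17, [36, 2, 14, 9, 26, 25, 35, 51, 12, 49, 53, 15, 23, 32, 48, 20, 34, 10, 33, 37]),
   ([7, 10, 14], 18, [53, 26, 40, 50, 6, 54, 0, 27, 50, 38, 5, 22, 11, 14, 46, 10, 51, 27, 24, 50]),
   ([14, 2, 14], 19, [24, 30, 0, 51, 26, 33, 41, 30, 37, 47, 41, 41, 10, 31, 46, 43, 11, 38, 44, 5]),
   ([8, 5], 20, [29, 15, 50, 6, 48, 17, 16, 12, 12, 35, 54, 24, 28, 53, 35, 48, 49, 40, 27, 50]),
   ([8, 2], 21, [30, 7, 14, 12, 27, 7, 37, 4, 12, 30, 22, 3, 31, 12, 40, 43, 10, 27, 25, 0]),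
   ([8, 3], 22, [14, 18, 45, 8, 12, 21, 52, 14, 39, 31, 46, 25, 14, 39, 36, 4, 23, 51, 50, 53]),
   ([3, 8, 5, 10], 23, [13, 24, 43, 44, 9, 14, 53, 17, 39, 53, 29, 16, 4, 37, 25, 22, 15, 42, 3, 44]),
   ([1, 10, 3, 9], 24, [50, 20, 42, 23, 35, 44, 53, 28, 18, 41, 13, 38, 3, 19, 26, 27, 44, 53, 49, 30]),
   ([7, 4, 8, 8], 25, [23, 22, 34, 29, 0, 36, 17, 33, 49, 1, 32, 30, 43, 27, 26, 51, 7, 53, 39, 21]),
   ([3, 7, 8], 26, [5, 2, 51, 17, 19, 33, 45, 47, 7, 30, 25, 18, 49, 27, 34, 54, 24, 15, 9, 53]),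
   ([1, 0, 8], 27, [21, 4, 18, 24, 21, 7, 40, 25, 15, 30, 26, 18, 53, 38, 20, 29, 6, 30, 7, 54]),
   ([8, 3, 5], 28, [41, 24, 54, 6, 52, 8, 29, 48, 39, 47, 50, 38, 20, 16, 11, 1, 4, 44, 35, 46]),
   ([3, 8, 10], 29, [11, 39, 43, 4, 40, 20, 11, 15, 39, 27, 23, 43, 44, 25, 28, 1, 32, 49, 1, 34]),
   ([3, 8, 2], 30, [21, 7, 21, 7, 19, 26, 31, 47, 39, 33, 27, 19, 4, 24, 9, 35, 38, 25, 27, 44]),
   ([8, 3, 2], 31, [41, 11, 22, 12, 31, 31, 35, 31, 39, 31, 14, 32, 21, 42, 9, 30, 56, 19, 5, 54]),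
   ([14, 0, 9, 3], 32, [34, 25, 15, 34, 56, 54, 16, 31, 2, 42, 17, 0, 37, 4, 10, 6, 6, 29, 43, 1]),
   ([3, 13, 12, 8], 33, [10, 36, 19, 30, 0, 36, 41, 1, 35, 25, 26, 51, 47, 42, 47, 49, 34, 17, 2, 53]),
   ([3, 7, 8, 3], 34, [37, 15, 48, 8, 42, 33, 54, 51, 7, 53, 54, 25, 49, 29, 26, 45, 43, 32, 17, 32]),
   ([1, 8, 5, 1], 35, [48, 16, 17, 12, 39, 9, 41, 30, 33, 31, 48, 24, 20, 44, 49, 47, 28, 20, 12, 41]),
   ([3, 13, 7], 36, [14, 52, 0, 33, 10, 33, 22, 17, 52, 2, 1, 40, 25, 42, 4, 39, 47, 9, 16, 55]),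
   ([1, 8, 0], 37, [40, 12, 43, 19, 43, 8, 15, 45, 17, 51, 41, 15, 46, 16, 32, 34, 44, 43, 21, 23]),
   ([1, 3, 14, 2], 38, [19, 24, 5, 15, 45, 7, 46, 52, 4, 47, 2, 18, 9, 27, 16, 28, 54, 44, 30, 6]),
   ([1, 3, 8, 5, 13], 39, [30, 9, 52, 36, 1, 11, 11, 29, 1, 28, 4, 25, 22, 23, 29, 49, 22, 31, 35, 53]),
   ([14, 9, 10], 40, [47, 55, 18, 50, 29, 27, 43, 15, 12, 20, 11, 40, 5, 40, 21, 37, 40, 42, 36, 40]),
   ([1, 11, 12], 41, [35, 33, 0, 19, 44, 24, 19, 35, 11, 28, 51, 46, 10, 43, 5, 31, 19, 49, 47, 37]),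
   ([14, 5, 9], 42, [46, 52, 34, 33, 36, 40, 24, 55, 13, 47, 51, 56, 53, 32, 3, 23, 54, 6, 44, 31]),
   ([1, 8, 7], 43, [25, 29, 45, 8, 29, 4, 41, 23, 19, 44, 51, 21, 37, 12, 46, 37, 37, 32, 34, 40]),
   ([1, 0, 10, 11], 44, [19, 30, 41, 35, 43, 23, 37, 29, 23, 4, 28, 46, 24, 6, 15, 16, 52, 38, 24, 42]),
   ([1, 8, 0, 3], 45, [26, 7, 38, 7, 51, 8, 46, 37, 8, 43, 52, 3, 47, 8, 14, 22, 5, 34, 54, 11]),
   ([1, 9, 10, 9], 46, [4, 28, 18, 50, 42, 52, 45, 6, 14, 44, 10, 19, 0, 41, 8, 22, 37, 16, 38, 43]),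
   ([3, 14, 9], 47, [8, 48, 19, 30, 45, 7, 41, 38, 35, 52, 33, 40, 26, 42, 49, 33, 55, 52, 28, 36]),
   ([3, 8, 11, 3], 48, [3, 7, 35, 12, 52, 28, 34, 8, 54, 47, 17, 20, 20, 35, 49, 8, 12, 1, 2, 16]),
   ([7, 8, 2, 5], 49, [34, 8, 25, 26, 41, 33, 20, 47, 24, 35, 17, 29, 51, 1, 53, 50, 39, 54, 48, 11]),
   ([1, 7, 11, 13], 50, [6, 28, 18, 40, 20, 49, 22, 53, 51, 24, 5, 46, 11, 18, 18, 14, 10, 20, 54, 0]),
   ([1, 7, 2, 11], 51, [53, 42, 18, 14, 17, 26, 43, 49, 37, 25, 22, 10, 50, 0, 45, 8, 19, 34, 33, 41]),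
   ([1, 10, 3, 14], 52, [14, 9, 44, 42, 39, 36, 7, 4, 45, 22, 6, 28, 46, 8, 38, 47, 48, 36, 16, 47]),
   ([1, 0, 9, 3, 14], 53, [24, 50, 9, 23, 24, 26, 51, 18, 42, 27, 14, 39, 17, 22, 34, 33, 25, 49, 20, 23]),
   ([14, 1, 5, 12], 54, [42, 32, 49, 34, 7, 26, 6, 45, 20, 34, 48, 18, 8, 38, 50, 28, 27, 56, 31, 6]),
   ([8, 14, 5], 55, [36, 47, 47, 40, 40, 47, 47, 36, 36, 42, 36, 36, 42, 40, 40, 42, 42, 40, 42, 47]),
   ([13, 0, 3, 7], 56, [42, 54, 42, 31, 32, 54, 31, 42, 32, 31, 54, 32, 32, 42, 42, 54, 54, 32, 31, 31])]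

theorem cons : ConsOK 0 D0 T (pcW P) As (Y.map Prod.fst) (e0 :: C) :=
  ConsOK.of (by decide +kernel)

theorem sol : solB D0 T (pcW P) As [] = true := by decide +kernel

def C2 : List (Nat × List Nat) :=
  [(nat_lit 1, [nat_lit 0, nat_lit 4, nat_lit 3, nat_lit 7, nat_lit 0, nat_lit 33, nat_lit 11, nat_lit 36, nat_lit 39, nat_lit 25, nat_lit 2, nat_lit 11, nat_lit 48, nat_lit 39, nat_lit 49, nat_lit 29, nat_lit 28, nat_lit 32, nat_lit 6, nat_lit 29]),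
   (nat_lit 2, [nat_lit 3, nat_lit 7, nat_lit 5, nat_lit 15, nat_lit 10, nat_lit 16, nat_lit 5, nat_lit 6, nat_lit 15, nat_lit 32, nat_lit 26, nat_lit 10, nat_lit 9, nat_lit 36, nat_lit 38, nat_lit 9, nat_lit 33, nat_lit 48, nat_lit 1, nat_lit 17]),
   (nat_lit 3, [nat_lit 1, nat_lit 2, nat_lit 5, nat_lit 8, nat_lit 13, nat_lit 24, nat_lit 3, nat_lit 42, nat_lit 3, nat_lit 23, nat_lit 45, nat_lit 10, nat_lit 11, nat_lit 12, nat_lit 3, nat_lit 3, nat_lit 21, nat_lit 7, nat_lit 48, nat_lit 0]),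
   (nat_lit 4, [nat_lit 0, nat_lit 1, nat_lit 27, nat_lit 7, nat_lit 23, nat_lit 43, nat_lit 16, nat_lit 29, nat_lit 38, nat_lit 44, nat_lit 21, nat_lit 52, nat_lit 30, nat_lit 39, nat_lit 46, nat_lit 28, nat_lit 36, nat_lit 6, nat_lit 32, nat_lit 22]),
   (nat_lit 5, [nat_lit 3, nat_lit 8, nat_lit 11, nat_lit 19, nat_lit 2, nat_lit 38, nat_lit 2, nat_lit 15, nat_lit 15, nat_lit 9, nat_lit 31, nat_lit 11, nat_lit 41, nat_lit 50, nat_lit 26, nat_lit 9, nat_lit 18, nat_lit 11, nat_lit 45, nat_lit 40]),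
   (nat_lit 6, [nat_lit 0, nat_lit 1, nat_lit 20, nat_lit 28, nat_lit 2, nat_lit 10, nat_lit 38, nat_lit 32, nat_lit 27, nat_lit 16, nat_lit 50, nat_lit 52, nat_lit 54, nat_lit 42, nat_lit 18, nat_lit 54, nat_lit 44, nat_lit 32, nat_lit 4, nat_lit 46]),
   (nat_lit 7, [nat_lit 2, nat_lit 3, nat_lit 30, nat_lit 27, nat_lit 21, nat_lit 30, nat_lit 26, nat_lit 25, nat_lit 34, nat_lit 27, nat_lit 4, nat_lit 52, nat_lit 21, nat_lit 38, nat_lit 54, nat_lit 45, nat_lit 47, nat_lit 48, nat_lit 1, nat_lit 45]),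
   (nat_lit 8, [nat_lit 3, nat_lit 5, nat_lit 34, nat_lit 49, nat_lit 37, nat_lit 45, nat_lit 14, nat_lit 51, nat_lit 22, nat_lit 43, nat_lit 48, nat_lit 52, nat_lit 54, nat_lit 47, nat_lit 45, nat_lit 46, nat_lit 28, nat_lit 45, nat_lit 11, nat_lit 48]),
   (nat_lit 9, [nat_lit 2, nat_lit 5, nat_lit 35, nat_lit 30, nat_lit 5, nat_lit 26, nat_lit 17, nat_lit 2, nat_lit 23, nat_lit 15, nat_lit 39, nat_lit 52, nat_lit 31, nat_lit 36, nat_lit 53, nat_lit 14, nat_lit 16, nat_lit 38, nat_lit 15, nat_lit 14]),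
   (nat_lit 10, [nat_lit 6, nat_lit 2, nat_lit 0, nat_lit 12, nat_lit 2, nat_lit 17, nat_lit 46, nat_lit 36, nat_lit 18, nat_lit 33, nat_lit 21, nat_lit 41, nat_lit 3, nat_lit 19, nat_lit 50, nat_lit 0, nat_lit 51, nat_lit 16, nat_lit 32, nat_lit 0]),
   (nat_lit 11, [nat_lit 29, nat_lit 39, nat_lit 5, nat_lit 50, nat_lit 28, nat_lit 29, nat_lit 45, nat_lit 1, nat_lit 3, nat_lit 39, nat_lit 40, nat_lit 41, nat_lit 18, nat_lit 19, nat_lit 5, nat_lit 8, nat_lit 31, nat_lit 1, nat_lit 49, nat_lit 5]),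
   (nat_lit 12, [nat_lit 48, nat_lit 35, nat_lit 0, nat_lit 10, nat_lit 35, nat_lit 48, nat_lit 22, nat_lit 20, nat_lit 14, nat_lit 16, nat_lit 3, nat_lit 40, nat_lit 21, nat_lit 43, nat_lit 21, nat_lit 31, nat_lit 37, nat_lit 17, nat_lit 20, nat_lit 21]),
   (nat_lit 13, [nat_lit 3, nat_lit 24, nat_lit 3, nat_lit 24, nat_lit 3, nat_lit 23, nat_lit 3, nat_lit 42, nat_lit 23, nat_lit 24, nat_lit 42, nat_lit 3, nat_lit 23, nat_lit 24, nat_lit 42, nat_lit 24, nat_lit 42, nat_lit 42, nat_lit 23, nat_lit 23]),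
   (nat_lit 14, [nat_lit 23, nat_lit 9, nat_lit 46, nat_lit 8, nat_lit 9, nat_lit 16, nat_lit 21, nat_lit 36, nat_lit 12, nat_lit 52, nat_lit 45, nat_lit 18, nat_lit 22, nat_lit 51, nat_lit 22, nat_lit 31, nat_lit 50, nat_lit 53, nat_lit 17, nat_lit 22]),
   (nat_lit 15, [nat_lit 44, nat_lit 23, nat_lit 26, nat_lit 5, nat_lit 32, nat_lit 34, nat_lit 5, nat_lit 17, nat_lit 38, nat_lit 37, nat_lit 9, nat_lit 27, nat_lit 2, nat_lit 29, nat_lit 2, nat_lit 9, nat_lit 20, nat_lit 16, nat_lit 37, nat_lit 40]),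
   (nat_lit 16, [nat_lit 14, nat_lit 9, nat_lit 10, nat_lit 2, nat_lit 37, nat_lit 15, nat_lit 46, nat_lit 23, nat_lit 4, nat_lit 44, nat_lit 6, nat_lit 12, nat_lit 32, nat_lit 48, nat_lit 28, nat_lit 38, nat_lit 35, nat_lit 52, nat_lit 36, nat_lit 20]),
   (nat_lit 17, [nat_lit 36, nat_lit 2, nat_lit 14, nat_lit 9, nat_lit 26, nat_lit 25, nat_lit 35, nat_lit 51, nat_lit 12, nat_lit 49, nat_lit 53, nat_lit 15, nat_lit 23, nat_lit 32, nat_lit 48, nat_lit 20, nat_lit 34, nat_lit 10, nat_lit 33, nat_lit 37]),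
   (nat_lit 18, [nat_lit 53, nat_lit 26, nat_lit 40, nat_lit 50, nat_lit 6, nat_lit 54, nat_lit 0, nat_lit 27, nat_lit 50, nat_lit 38, nat_lit 5, nat_lit 22, nat_lit 11, nat_lit 14, nat_lit 46, nat_lit 10, nat_lit 51, nat_lit 27, nat_lit 24, nat_lit 50]),
   (nat_lit 19, [nat_lit 24, nat_lit 30, nat_lit 0, nat_lit 51, nat_lit 26, nat_lit 33, nat_lit 41, nat_lit 30, nat_lit 37, nat_lit 47, nat_lit 41, nat_lit 41, nat_lit 10, nat_lit 31, nat_lit 46, nat_lit 43, nat_lit 11, nat_lit 38, nat_lit 44, nat_lit 5]),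
   (nat_lit 20, [nat_lit 29, nat_lit 15, nat_lit 50, nat_lit 6, nat_lit 48, nat_lit 17, nat_lit 16, nat_lit 12, nat_lit 12, nat_lit 35, nat_lit 54, nat_lit 24, nat_lit 28, nat_lit 53, nat_lit 35, nat_lit 48, nat_lit 49, nat_lit 40, nat_lit 27, nat_lit 50]),
   (nat_lit 21, [nat_lit 30, nat_lit 7, nat_lit 14, nat_lit 12, nat_lit 27, nat_lit 7, nat_lit 37, nat_lit 4, nat_lit 12, nat_lit 30, nat_lit 22, nat_lit 3, nat_lit 31, nat_lit 12, nat_lit 40, nat_lit 43, nat_lit 10, nat_lit 27, nat_lit 25, nat_lit 0]),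
   (nat_lit 22, [nat_lit 14, nat_lit 18, nat_lit 45, nat_lit 8, nat_lit 12, nat_lit 21, nat_lit 52, nat_lit 14, nat_lit 39, nat_lit 31, nat_lit 46, nat_lit 25, nat_lit 14, nat_lit 39, nat_lit 36, nat_lit 4, nat_lit 23, nat_lit 51, nat_lit 50, nat_lit 53]),
   (nat_lit 23, [nat_lit 13, nat_lit 24, nat_lit 43, nat_lit 44, nat_lit 9, nat_lit 14, nat_lit 53, nat_lit 17, nat_lit 39, nat_lit 53, nat_lit 29, nat_lit 16, nat_lit 4, nat_lit 37, nat_lit 25, nat_lit 22, nat_lit 15, nat_lit 42, nat_lit 3, nat_lit 44]),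
   (nat_lit 24, [nat_lit 50, nat_lit 20, nat_lit 42, nat_lit 23, nat_lit 35, nat_lit 44, nat_lit 53, nat_lit 28, nat_lit 18, nat_lit 41, nat_lit 13, nat_lit 38, nat_lit 3, nat_lit 19, nat_lit 26, nat_lit 27, nat_lit 44, nat_lit 53, nat_lit 49, nat_lit 30]),
   (nat_lit 25, [nat_lit 23, nat_lit 22, nat_lit 34, nat_lit 29, nat_lit 0, nat_lit 36, nat_lit 17, nat_lit 33, nat_lit 49, nat_lit 1, nat_lit 32, nat_lit 30, nat_lit 43, nat_lit 27, nat_lit 26, nat_lit 51, nat_lit 7, nat_lit 53, nat_lit 39, nat_lit 21]),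
   (nat_lit 26, [nat_lit 5, nat_lit 2, nat_lit 51, nat_lit 17, nat_lit 19, nat_lit 33, nat_lit 45, nat_lit 47, nat_lit 7, nat_lit 30, nat_lit 25, nat_lit 18, nat_lit 49, nat_lit 27, nat_lit 34, nat_lit 54, nat_lit 24, nat_lit 15, nat_lit 9, nat_lit 53]),
   (nat_lit 27, [nat_lit 21, nat_lit 4, nat_lit 18, nat_lit 24, nat_lit 21, nat_lit 7, nat_lit 40, nat_lit 25, nat_lit 15, nat_lit 30, nat_lit 26, nat_lit 18, nat_lit 53, nat_lit 38, nat_lit 20, nat_lit 29, nat_lit 6, nat_lit 30, nat_lit 7, nat_lit 54]),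
   (nat_lit 28, [nat_lit 41, nat_lit 24, nat_lit 54, nat_lit 6, nat_lit 52, nat_lit 8, nat_lit 29, nat_lit 48, nat_lit 39, nat_lit 47, nat_lit 50, nat_lit 38, nat_lit 20, nat_lit 16, nat_lit 11, nat_lit 1, nat_lit 4, nat_lit 44, nat_lit 35, nat_lit 46]),
   (nat_lit 29, [nat_lit 11, nat_lit 39, nat_lit 43, nat_lit 4, nat_lit 40, nat_lit 20, nat_lit 11, nat_lit 15, nat_lit 39, nat_lit 27, nat_lit 23, nat_lit 43, nat_lit 44, nat_lit 25, nat_lit 28, nat_lit 1, nat_lit 32, nat_lit 49, nat_lit 1, nat_lit 34]),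
   (nat_lit 30, [nat_lit 21, nat_lit 7, nat_lit 21, nat_lit 7, nat_lit 19, nat_lit 26, nat_lit 31, nat_lit 47, nat_lit 39, nat_lit 33, nat_lit 27, nat_lit 19, nat_lit 4, nat_lit 24, nat_lit 9, nat_lit 35, nat_lit 38, nat_lit 25, nat_lit 27, nat_lit 44]),
   (nat_lit 31, [nat_lit 41, nat_lit 11, nat_lit 22, nat_lit 12, nat_lit 31, nat_lit 31, nat_lit 35, nat_lit 31, nat_lit 39, nat_lit 31, nat_lit 14, nat_lit 32, nat_lit 21, nat_lit 42, nat_lit 9, nat_lit 30, nat_lit 56, nat_lit 19, nat_lit 5, nat_lit 54]),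
   (nat_lit 32, [nat_lit 34, nat_lit 25, nat_lit 15, nat_lit 34, nat_lit 56, nat_lit 54, nat_lit 16, nat_lit 31, nat_lit 2, nat_lit 42, nat_lit 17, nat_lit 0, nat_lit 37, nat_lit 4, nat_lit 10, nat_lit 6, nat_lit 6, nat_lit 29, nat_lit 43, nat_lit 1]),
   (nat_lit 33, [nat_lit 10, nat_lit 36, nat_lit 19, nat_lit 30, nat_lit 0, nat_lit 36, nat_lit 41, nat_lit 1, nat_lit 35, nat_lit 25, nat_lit 26, nat_lit 51, nat_lit 47, nat_lit 42, nat_lit 47, nat_lit 49, nat_lit 34, nat_lit 17, nat_lit 2, nat_lit 53]),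
   (nat_lit 34, [nat_lit 37, nat_lit 15, nat_lit 48, nat_lit 8, nat_lit 42, nat_lit 33, nat_lit 54, nat_lit 51, nat_lit 7, nat_lit 53, nat_lit 54, nat_lit 25, nat_lit 49, nat_lit 29, nat_lit 26, nat_lit 45, nat_lit 43, nat_lit 32, nat_lit 17, nat_lit 32]),
   (nat_lit 35, [nat_lit 48, nat_lit 16, nat_lit 17, nat_lit 12, nat_lit 39, nat_lit 9, nat_lit 41, nat_lit 30, nat_lit 33, nat_lit 31, nat_lit 48, nat_lit 24, nat_lit 20, nat_lit 44, nat_lit 49, nat_lit 47, nat_lit 28, nat_lit 20, nat_lit 12, nat_lit 41]),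
   (nat_lit 36, [nat_lit 14, nat_lit 52, nat_lit 0, nat_lit 33, nat_lit 10, nat_lit 33, nat_lit 22, nat_lit 17, nat_lit 52, nat_lit 2, nat_lit 1, nat_lit 40, nat_lit 25, nat_lit 42, nat_lit 4, nat_lit 39, nat_lit 47, nat_lit 9, nat_lit 16, nat_lit 55]),
   (nat_lit 37, [nat_lit 40, nat_lit 12, nat_lit 43, nat_lit 19, nat_lit 43, nat_lit 8, nat_lit 15, nat_lit 45, nat_lit 17, nat_lit 51, nat_lit 41, nat_lit 15, nat_lit 46, nat_lit 16, nat_lit 32, nat_lit 34, nat_lit 44, nat_lit 43, nat_lit 21, nat_lit 23]),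
   (nat_lit 38, [nat_lit 19, nat_lit 24, nat_lit 5, nat_lit 15, nat_lit 45, nat_lit 7, nat_lit 46, nat_lit 52, nat_lit 4, nat_lit 47, nat_lit 2, nat_lit 18, nat_lit 9, nat_lit 27, nat_lit 16, nat_lit 28, nat_lit 54, nat_lit 44, nat_lit 30, nat_lit 6]),
   (nat_lit 39, [nat_lit 30, nat_lit 9, nat_lit 52, nat_lit 36, nat_lit 1, nat_lit 11, nat_lit 11, nat_lit 29, nat_lit 1, nat_lit 28, nat_lit 4, nat_lit 25, nat_lit 22, nat_lit 23, nat_lit 29, nat_lit 49, nat_lit 22, nat_lit 31, nat_lit 35, nat_lit 53]),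
   (nat_lit 40, [nat_lit 47, nat_lit 55, nat_lit 18, nat_lit 50, nat_lit 29, nat_lit 27, nat_lit 43, nat_lit 15, nat_lit 12, nat_lit 20, nat_lit 11, nat_lit 40, nat_lit 5, nat_lit 40, nat_lit 21, nat_lit 37, nat_lit 40, nat_lit 42, nat_lit 36, nat_lit 40]),
   (nat_lit 41, [nat_lit 35, nat_lit 33, nat_lit 0, nat_lit 19, nat_lit 44, nat_lit 24, nat_lit 19, nat_lit 35, nat_lit 11, nat_lit 28, nat_lit 51, nat_lit 46, nat_lit 10, nat_lit 43, nat_lit 5, nat_lit 31, nat_lit 19, nat_lit 49, nat_lit 47, nat_lit 37]),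
   (nat_lit 42, [nat_lit 46, nat_lit 52, nat_lit 34, nat_lit 33, nat_lit 36, nat_lit 40, nat_lit 24, nat_lit 55, nat_lit 13, nat_lit 47, nat_lit 51, nat_lit 56, nat_lit 53, nat_lit 32, nat_lit 3, nat_lit 23, nat_lit 54, nat_lit 6, nat_lit 44, nat_lit 31]),
   (nat_lit 43, [nat_lit 25, nat_lit 29, nat_lit 45, nat_lit 8, nat_lit 29, nat_lit 4, nat_lit 41, nat_lit 23, nat_lit 19, nat_lit 44, nat_lit 51, nat_lit 21, nat_lit 37, nat_lit 12, nat_lit 46, nat_lit 37, nat_lit 37, nat_lit 32, nat_lit 34, nat_lit 40]),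
   (nat_lit 44, [nat_lit 19, nat_lit 30, nat_lit 41, nat_lit 35, nat_lit 43, nat_lit 23, nat_lit 37, nat_lit 29, nat_lit 23, nat_lit 4, nat_lit 28, nat_lit 46, nat_lit 24, nat_lit 6, nat_lit 15, nat_lit 16, nat_lit 52, nat_lit 38, nat_lit 24, nat_lit 42]),
   (nat_lit 45, [nat_lit 26, nat_lit 7, nat_lit 38, nat_lit 7, nat_lit 51, nat_lit 8, nat_lit 46, nat_lit 37, nat_lit 8, nat_lit 43, nat_lit 52, nat_lit 3, nat_lit 47, nat_lit 8, nat_lit 14, nat_lit 22, nat_lit 5, nat_lit 34, nat_lit 54, nat_lit 11]),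
   (nat_lit 46, [nat_lit 4, nat_lit 28, nat_lit 18, nat_lit 50, nat_lit 42, nat_lit 52, nat_lit 45, nat_lit 6, nat_lit 14, nat_lit 44, nat_lit 10, nat_lit 19, nat_lit 0, nat_lit 41, nat_lit 8, nat_lit 22, nat_lit 37, nat_lit 16, nat_lit 38, nat_lit 43]),
   (nat_lit 47, [nat_lit 8, nat_lit 48, nat_lit 19, nat_lit 30, nat_lit 45, nat_lit 7, nat_lit 41, nat_lit 38, nat_lit 35, nat_lit 52, nat_lit 33, nat_lit 40, nat_lit 26, nat_lit 42, nat_lit 49, nat_lit 33, nat_lit 55, nat_lit 52, nat_lit 28, nat_lit 36]),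
   (nat_lit 48, [nat_lit 3, nat_lit 7, nat_lit 35, nat_lit 12, nat_lit 52, nat_lit 28, nat_lit 34, nat_lit 8, nat_lit 54, nat_lit 47, nat_lit 17, nat_lit 20, nat_lit 20, nat_lit 35, nat_lit 49, nat_lit 8, nat_lit 12, nat_lit 1, nat_lit 2, nat_lit 16]),
   (nat_lit 49, [nat_lit 34, nat_lit 8, nat_lit 25, nat_lit 26, nat_lit 41, nat_lit 33, nat_lit 20, nat_lit 47, nat_lit 24, nat_lit 35, nat_lit 17, nat_lit 29, nat_lit 51, nat_lit 1, nat_lit 53, nat_lit 50, nat_lit 39, nat_lit 54, nat_lit 48, nat_lit 11]),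
   (nat_lit 50, [nat_lit 6, nat_lit 28, nat_lit 18, nat_lit 40, nat_lit 20, nat_lit 49, nat_lit 22, nat_lit 53, nat_lit 51, nat_lit 24, nat_lit 5, nat_lit 46, nat_lit 11, nat_lit 18, nat_lit 18, nat_lit 14, nat_lit 10, nat_lit 20, nat_lit 54, nat_lit 0]),
   (nat_lit 51, [nat_lit 53, nat_lit 42, nat_lit 18, nat_lit 14, nat_lit 17, nat_lit 26, nat_lit 43, nat_lit 49, nat_lit 37, nat_lit 25, nat_lit 22, nat_lit 10, nat_lit 50, nat_lit 0, nat_lit 45, nat_lit 8, nat_lit 19, nat_lit 34, nat_lit 33, nat_lit 41]),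
   (nat_lit 52, [nat_lit 14, nat_lit 9, nat_lit 44, nat_lit 42, nat_lit 39, nat_lit 36, nat_lit 7, nat_lit 4, nat_lit 45, nat_lit 22, nat_lit 6, nat_lit 28, nat_lit 46, nat_lit 8, nat_lit 38, nat_lit 47, nat_lit 48, nat_lit 36, nat_lit 16, nat_lit 47]),
   (nat_lit 53, [nat_lit 24, nat_lit 50, nat_lit 9, nat_lit 23, nat_lit 24, nat_lit 26, nat_lit 51, nat_lit 18, nat_lit 42, nat_lit 27, nat_lit 14, nat_lit 39, nat_lit 17, nat_lit 22, nat_lit 34, nat_lit 33, nat_lit 25, nat_lit 49, nat_lit 20, nat_lit 23]),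
   (nat_lit 54, [nat_lit 42, nat_lit 32, nat_lit 49, nat_lit 34, nat_lit 7, nat_lit 26, nat_lit 6, nat_lit 45, nat_lit 20, nat_lit 34, nat_lit 48, nat_lit 18, nat_lit 8, nat_lit 38, nat_lit 50, nat_lit 28, nat_lit 27, nat_lit 56, nat_lit 31, nat_lit 6]),
   (nat_lit 55, [nat_lit 36, nat_lit 47, nat_lit 47, nat_lit 40, nat_lit 40, nat_lit 47, nat_lit 47, nat_lit 36, nat_lit 36, nat_lit 42, nat_lit 36, nat_lit 36, nat_lit 42, nat_lit 40, nat_lit 40, nat_lit 42, nat_lit 42, nat_lit 40, nat_lit 42, nat_lit 47]),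
   (nat_lit 56, [nat_lit 42, nat_lit 54, nat_lit 42, nat_lit 31, nat_lit 32, nat_lit 54, nat_lit 31, nat_lit 42, nat_lit 32, nat_lit 31, nat_lit 54, nat_lit 32, nat_lit 32, nat_lit 42, nat_lit 42, nat_lit 54, nat_lit 54, nat_lit 32, nat_lit 31, nat_lit 31])]

def S2 : List Nat := []

open Dt in
noncomputable def tT : Dt :=
(br (nat_lit 13) (br (nat_lit 3) (br (nat_lit 23) (br (nat_lit 24) (br (nat_lit 42) (lf (nat_lit 12))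
(lf (nat_lit 12)))
(lf (nat_lit 12)))
(lf (nat_lit 12)))
(lf (nat_lit 12)))
(br (nat_lit 55) (br (nat_lit 36) (br (nat_lit 40) (br (nat_lit 42) (br (nat_lit 47) (lf (nat_lit 54))
(lf (nat_lit 54)))
(lf (nat_lit 54)))
(lf (nat_lit 54)))
(lf (nat_lit 54)))
(br (nat_lit 31) (br (nat_lit 32) (br (nat_lit 42) (br (nat_lit 54) (lf (nat_lit 55))
(lf (nat_lit 55)))
(br (nat_lit 54) (lf (nat_lit 55))
(br (nat_lit 6) (br (nat_lit 0) (br (nat_lit 1) (br (nat_lit 2) (br (nat_lit 4) (br (nat_lit 10) (br (nat_lit 16) (br (nat_lit 18) (br (nat_lit 20) (br (nat_lit 27) (br (nat_lit 28) (br (nat_lit 34) (br (nat_lit 7) (lf (nat_lit 53))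
(lf (nat_lit 33)))
(lf (nat_lit 31)))
(lf (nat_lit 5)))
(lf (nat_lit 5)))
(lf (nat_lit 5)))
(lf (nat_lit 5)))
(lf (nat_lit 5)))
(lf (nat_lit 5)))
(lf (nat_lit 5)))
(lf (nat_lit 5)))
(lf (nat_lit 5)))
(lf (nat_lit 5)))
(lf (nat_lit 31)))))
(br (nat_lit 56) (lf (nat_lit 55))
(br (nat_lit 42) (lf (nat_lit 41))
(br (nat_lit 5) (br (nat_lit 9) (br (nat_lit 11) (br (nat_lit 12) (br (nat_lit 14) (br (nat_lit 19) (br (nat_lit 21) (br (nat_lit 22) (br (nat_lit 30) (br (nat_lit 35) (br (nat_lit 39) (br (nat_lit 41) (br (nat_lit 54) (br (nat_lit 6) (br (nat_lit 0) (br (nat_lit 1) (br (nat_lit 2) (br (nat_lit 4) (br (nat_lit 7) (br (nat_lit 8) (br (nat_lit 10) (br (nat_lit 16) (br (nat_lit 15) (lf (nat_lit 31))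
(br (nat_lit 3) (br (nat_lit 17) (lf (nat_lit 31))
(lf (nat_lit 1)))
(lf (nat_lit 1))))
(lf (nat_lit 5)))
(lf (nat_lit 56)))
(lf (nat_lit 53)))
(lf (nat_lit 53)))
(lf (nat_lit 5)))
(lf (nat_lit 5)))
(lf (nat_lit 5)))
(lf (nat_lit 5)))
(lf (nat_lit 53)))
(lf (nat_lit 30)))
(lf (nat_lit 30)))
(lf (nat_lit 30)))
(lf (nat_lit 30)))
(lf (nat_lit 30)))
(lf (nat_lit 30)))
(lf (nat_lit 30)))
(lf (nat_lit 30)))
(lf (nat_lit 30)))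
(lf (nat_lit 30)))
(lf (nat_lit 30)))
(lf (nat_lit 30)))
(lf (nat_lit 30))))))
(br (nat_lit 56) (lf (nat_lit 55))
(br (nat_lit 42) (lf (nat_lit 41))
(br (nat_lit 32) (br (nat_lit 0) (br (nat_lit 1) (br (nat_lit 2) (br (nat_lit 4) (br (nat_lit 6) (br (nat_lit 10) (br (nat_lit 15) (br (nat_lit 16) (br (nat_lit 17) (br (nat_lit 25) (br (nat_lit 29) (br (nat_lit 34) (br (nat_lit 37) (br (nat_lit 43) (br (nat_lit 54) (br (nat_lit 7) (br (nat_lit 8) (br (nat_lit 18) (br (nat_lit 20) (br (nat_lit 26) (br (nat_lit 27) (br (nat_lit 28) (br (nat_lit 38) (br (nat_lit 45) (br (nat_lit 46) (br (nat_lit 48) (br (nat_lit 49) (br (nat_lit 50) (br (nat_lit 44) (lf (nat_lit 5))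
(br (nat_lit 19) (lf (nat_lit 43))
(br (nat_lit 14) (br (nat_lit 12) (br (nat_lit 21) (br (nat_lit 9) (lf (nat_lit 29))
(br (nat_lit 3) (lf (nat_lit 4))
(br (nat_lit 5) (lf (nat_lit 2))
(lf (nat_lit 1)))))
(lf (nat_lit 11)))
(lf (nat_lit 11)))
(lf (nat_lit 45)))))
(lf (nat_lit 49)))
(lf (nat_lit 53)))
(lf (nat_lit 47)))
(lf (nat_lit 45)))
(lf (nat_lit 44)))
(lf (nat_lit 53)))
(lf (nat_lit 53)))
(lf (nat_lit 26)))
(lf (nat_lit 53)))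
(lf (nat_lit 53)))
(lf (nat_lit 53)))
(lf (nat_lit 53)))
(lf (nat_lit 53)))
(lf (nat_lit 31)))
(lf (nat_lit 31)))
(lf (nat_lit 31)))
(lf (nat_lit 31)))
(lf (nat_lit 31)))
(lf (nat_lit 31)))
(lf (nat_lit 31)))
(lf (nat_lit 31)))
(lf (nat_lit 31)))
(lf (nat_lit 31)))
(lf (nat_lit 31)))
(lf (nat_lit 31)))
(lf (nat_lit 31)))
(lf (nat_lit 31)))
(lf (nat_lit 31)))
(lf (nat_lit 55))))))))

theorem tree : dp (nat_lit 10) (nat_lit 17) (nat_lit 20) (nat_lit 0x1ffffffffffffff) (nat_lit 0, [nat_lit 1, nat_lit 4, nat_lit 10, nat_lit 19, nat_lit 1, nat_lit 33, nat_lit 3, nat_lit 25, nat_lit 12, nat_lit 36, nat_lit 51, nat_lit 10, nat_lit 41, nat_lit 46, nat_lit 10, nat_lit 21, nat_lit 50, nat_lit 6, nat_lit 32, nat_lit 18]) C2 S2 tT (nat_lit 0) (nat_lit 0) = true := by decide +kernel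


end Cfsg.Agent.R3.Suz2
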